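import Groth.Agent.S18472
import Mathlib.RingTheory.Flat.FaithfullyFlat.Algebra
import Mathlib.RingTheory.LocalRing.Module
import Mathlib.RingTheory.Unramified.Basic
import Mathlib.RingTheory.Ideal.Quotient.Operations

/-!
# Connected and étale parts in extensions of finite flat groups
-/

set_option autoImplicit false
universe u

noncomputable section

namespace Groth.Agent.ConnExt23

variable {R : Type u} [CommRing R] {A A'' : Type u} [CommRing A] [CommRing A''] [Algebra A'' A]

/-- A finite extension of a local ring with local quotient by a proper ideal of the base is local. -/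
theorem isLocalRing_of_quotient [IsLocalRing A''] [Module.Finite A'' A] (J : Ideal A'') (hJ : J ≠ ⊤)
    [IsLocalRing (A ⧸ J.map (algebraMap A'' A))] : IsLocalRing A := by
  haveI : Nontrivial A := (Ideal.Quotient.mk (J.map (algebraMap A'' A))).domain_nontrivial
  haveI : Algebra.IsIntegral A'' A := Algebra.IsIntegral.of_finite A'' A
  have hle : ∀ m : Ideal A, m.IsMaximal → J.map (algebraMap A'' A) ≤ m := fun m hm => by
    refine Ideal.map_le_iff_le_comap.2 ((IsLocalRing.le_maximalIdeal hJ).trans (le_of_eq ?_))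
    exact (IsLocalRing.eq_maximalIdeal (Ideal.isMaximal_comap_of_isIntegral_of_isMaximal m)).symm
  refine IsLocalRing.of_unique_max_ideal ?_
  obtain ⟨m, hm⟩ := Ideal.exists_maximal A
  refine ⟨m, hm, fun m' hm' => ?_⟩
  let q := Ideal.Quotient.mk (J.map (algebraMap A'' A))
  have hq : Function.Surjective q := Ideal.Quotient.mk_surjective
  have key : ∀ n : Ideal A, n.IsMaximal → Ideal.comap q (IsLocalRing.maximalIdeal _) = n := by
    intro n hn
    rcases Ideal.map_eq_top_or_isMaximal_of_surjective q hq hn with h | h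
    · exfalso
      have h1 : Ideal.comap q (Ideal.map q n) = n := by
        rw [Ideal.comap_map_of_surjective q hq, ← RingHom.ker_eq_comap_bot, Ideal.mk_ker]
        exact sup_eq_left.2 (hle n hn)
      rw [h, Ideal.comap_top] at h1
      exact hn.ne_top h1.symm
    · rw [← IsLocalRing.eq_maximalIdeal h, Ideal.comap_map_of_surjective q hq, ← RingHom.ker_eq_comap_bot, Ideal.mk_ker]
      exact sup_eq_left.2 (hle n hn)
  rw [← key m hm, key m' hm']

variable [Algebra R A] [Algebra R A''] [IsScalarTower R A'' A]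

/-- The kernel of a section of an unramified algebra is its own square. -/
theorem ker_le_sq [Algebra.FormallyUnramified R A] (ε : A →ₐ[R] R) :
    RingHom.ker ε ≤ RingHom.ker ε ^ 2 := by
  intro x hx
  let I := RingHom.ker ε
  let f : A →ₐ[R] A ⧸ I ^ 2 := Ideal.Quotient.mkₐ R _
  let g : A →ₐ[R] A ⧸ I ^ 2 := (Algebra.ofId R (A ⧸ I ^ 2)).comp ε
  let N : Ideal (A ⧸ I ^ 2) := I.map (Ideal.Quotient.mk _)
  have hN : N ^ 2 = ⊥ := by
    rw [← Ideal.map_pow, Ideal.map_quotient_self]
  have he : f = g := by
    refine Algebra.FormallyUnramified.comp_injective N hN (AlgHom.ext fun a => ?_)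
    show Ideal.Quotient.mk N (Ideal.Quotient.mk _ a) = Ideal.Quotient.mk N (algebraMap R _ (ε a))
    rw [Ideal.Quotient.eq, show algebraMap R (A ⧸ I ^ 2) (ε a) = Ideal.Quotient.mk _ (algebraMap R A (ε a)) from rfl,
      ← map_sub]
    refine Ideal.mem_map_of_mem _ ?_
    show ε (a - algebraMap R A (ε a)) = 0
    simp
  have h := DFunLike.congr_fun he x
  simp only [f, g, AlgHom.comp_apply, RingHom.mem_ker.1 hx, map_zero] at h
  exact Ideal.Quotient.eq_zero_iff_mem.1 h

theorem ker_eq_of_quotient {ε : A →ₐ[R] R} (J : Ideal A) (hJ : J ≤ RingHom.ker ε)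
    [Algebra.FormallyUnramified R (A ⧸ J)] : RingHom.ker ε ≤ RingHom.ker ε ^ 2 ⊔ J := by
  intro x hx
  let ε' : A ⧸ J →ₐ[R] R := Ideal.Quotient.liftₐ J ε fun a ha => hJ ha
  have h : Ideal.Quotient.mk J x ∈ RingHom.ker ε' ^ 2 := ker_le_sq ε' (show ε' (Ideal.Quotient.mk J x) = 0 from hx)
  have h2 : RingHom.ker ε' ≤ (RingHom.ker ε).map (Ideal.Quotient.mk J) := by
    intro y hy
    obtain ⟨a, rfl⟩ := Ideal.Quotient.mk_surjective y
    exact Ideal.mem_map_of_mem _ hy
  have h3 := Ideal.pow_right_mono h2 2 h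
  rw [← Ideal.map_pow, ← Ideal.mem_comap, Ideal.comap_map_of_surjective _ Ideal.Quotient.mk_surjective,
    ← RingHom.ker_eq_comap_bot, Ideal.mk_ker] at h3
  exact h3

/-- An idempotent with counit one in a local quotient is one. -/
theorem mk_eq_one {B : Type u} [CommRing B] [Algebra R B] (ε : B →ₐ[R] R) [Nontrivial R] {I : Ideal B}
    (hI : I ≤ RingHom.ker ε) [IsLocalRing (B ⧸ I)] {e : B} (he : IsIdempotentElem (Ideal.Quotient.mk I e))
    (hε : ε e = 1) : Ideal.Quotient.mk I e = 1 := by
  rcases IsLocalRing.isUnit_or_isUnit_one_sub_self (Ideal.Quotient.mk I e) with h | h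
  · exact (IsIdempotentElem.iff_eq_one_of_isUnit h).1 he
  · exfalso
    have h0 : Ideal.Quotient.mk I e = 0 := by
      have := (IsIdempotentElem.iff_eq_one_of_isUnit h).1 he.one_sub
      simpa using this
    have := hI (Ideal.Quotient.eq_zero_iff_mem.1 h0)
    rw [RingHom.mem_ker, hε] at this
    exact one_ne_zero this

end Groth.Agent.ConnExt23
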